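import Groth.Prelude.Def_K0Var

/-!
# The class of a scheme cut into clopen pieces
-/

set_option autoImplicit false
set_option backward.isDefEq.respectTransparency false
noncomputable section

universe u

open CategoryTheory CategoryTheory.Limits AlgebraicGeometry

namespace SymCoprod

theorem cl_eq_sum {S : Scheme.{u}} :
    ∀ (m : ℕ) {X : Scheme.{u}} (f : X ⟶ S) [LocallyOfFiniteType f] [QuasiCompact f] (U : Fin m → Scheme.{u})
      (v : ∀ k, U k ⟶ X) [∀ k, IsOpenImmersion (v k)] [∀ k, LocallyOfFiniteType (v k ≫ f)]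
      [∀ k, QuasiCompact (v k ≫ f)],
      Pairwise (fun k l => Disjoint (Set.range (v k)) (Set.range (v l))) →
      (∀ x, ∃ k, x ∈ Set.range (v k)) → K0Var.cl f = ∑ k, K0Var.cl (v k ≫ f) := by
  intro m
  induction m with
  | zero =>
    intro X f _ _ U v _ _ _ _ hcov
    haveI : IsEmpty X := ⟨fun x => (hcov x).choose.elim0⟩
    rw [Finset.sum_of_isEmpty]
    exact K0Var.Gen.cl_eq_zero_of_isEmpty (K0Var.Gen.mk X f)
  | succ m ih =>
    intro X f _ _ U v _ _ _ hdis hcov
    let W : X.Opens := ⨆ k : Fin m, (v k.castSucc).opensRange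
    have hW : (W : Set X) = (Set.range (v (Fin.last m)))ᶜ := by
      ext x
      simp only [W, TopologicalSpace.Opens.coe_iSup, Set.mem_iUnion, Set.mem_compl_iff, Scheme.Hom.coe_opensRange]
      refine ⟨fun ⟨k, hk⟩ h => Set.disjoint_left.1 (hdis k.castSucc_lt_last.ne) hk h, fun h => ?_⟩
      obtain ⟨k, hk⟩ := hcov x
      rcases Fin.eq_castSucc_or_eq_last k with ⟨k', rfl⟩ | rfl
      · exact ⟨k', hk⟩
      · exact absurd hk h
    have hclosed : IsClosed (Set.range (v (Fin.last m))) := by
      rw [← isOpen_compl_iff, ← hW]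
      exact W.2
    haveI : IsClosedImmersion (v (Fin.last m)) := IsClosedImmersion.of_isPreimmersion _ hclosed
    have hclosedW : IsClosed (Set.range W.ι) := by
      rw [Scheme.Opens.range_ι, hW, isClosed_compl_iff]
      exact (v (Fin.last m)).isOpenEmbedding.isOpen_range
    haveI : IsClosedImmersion W.ι := IsClosedImmersion.of_isPreimmersion _ hclosedW
    have hsub : ∀ k : Fin m, Set.range (v k.castSucc) ⊆ Set.range W.ι := fun k => by
      rw [Scheme.Opens.range_ι]
      exact le_iSup (fun k : Fin m => (v k.castSucc).opensRange) k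
    let w : ∀ k : Fin m, U k.castSucc ⟶ W.toScheme := fun k =>
      IsOpenImmersion.lift W.ι (v k.castSucc) (hsub k)
    have hw : ∀ k, w k ≫ W.ι = v k.castSucc := fun k => IsOpenImmersion.lift_fac _ _ _
    haveI : ∀ k, IsOpenImmersion (w k) := fun k => by
      haveI : IsOpenImmersion (w k ≫ W.ι) := by rw [hw]; infer_instance
      exact IsOpenImmersion.of_comp (w k) W.ι
    have hwf : ∀ k, w k ≫ W.ι ≫ f = v k.castSucc ≫ f := fun k => by rw [← Category.assoc, hw]
    haveI : ∀ k, LocallyOfFiniteType (w k ≫ W.ι ≫ f) := fun k => by rw [hwf]; infer_instance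
    haveI : ∀ k, QuasiCompact (w k ≫ W.ι ≫ f) := fun k => by rw [hwf]; infer_instance
    have hval : ∀ k z, W.ι (w k z) = v k.castSucc z := fun k z => by rw [← Scheme.Hom.comp_apply, hw]
    have h1 := ih (W.ι ≫ f) (fun k => U k.castSucc) w (fun k l hkl => by
      show Disjoint _ _
      rw [Set.disjoint_left]
      rintro _ ⟨a, rfl⟩ ⟨b, hb⟩
      refine Set.disjoint_left.1 (hdis (fun h => hkl (Fin.castSucc_injective _ h))) ⟨a, rfl⟩ ⟨b, ?_⟩
      rw [← hval, hb, hval]) (fun x => by
      obtain ⟨k, z, hz⟩ : ∃ (k : Fin m) (z : U k.castSucc), v k.castSucc z = W.ι x := by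
        have hx : W.ι x ∈ (W : Set X) := x.2
        simpa [W] using hx
      exact ⟨k, z, W.ι.isOpenEmbedding.injective ((hval k z).trans hz)⟩)
    rw [K0Var.cl_scissor f (v (Fin.last m)) W.ι (by rw [Scheme.Opens.range_ι, hW, compl_compl]), h1,
      Fin.sum_univ_castSucc, add_comm]
    simp only [hwf]

end SymCoprod
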