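import Groth.Prelude.Def_SymProd
import Mathlib.AlgebraicGeometry.Limits

/-!
# The pieces of a fibre power of a disjoint union
-/

set_option autoImplicit false
set_option backward.isDefEq.respectTransparency false
noncomputable section

universe u

open CategoryTheory CategoryTheory.Limits AlgebraicGeometry

namespace SymCoprod

variable {X X' Y : Scheme.{u}} (f : X ⟶ Y) (f' : X' ⟶ Y) (n : ℕ)

/-- The product of two fibre powers. -/
abbrev M (i j : ℕ) : Scheme.{u} :=
  pullback (WidePullback.base (fun _ : Fin i => f)) (WidePullback.base (fun _ : Fin j => f'))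

variable {n} {i j i' j' : ℕ}

/-- The `k`-th component of a piece. -/
def comp' (x : Fin i ⊕ Fin j) : M f f' i j ⟶ X ⨿ X' :=
  x.elim (fun a => pullback.fst _ _ ≫ WidePullback.π _ a ≫ coprod.inl)
    (fun b => pullback.snd _ _ ≫ WidePullback.π _ b ≫ coprod.inr)

theorem comp'_base (x : Fin i ⊕ Fin j) :
    comp' f f' x ≫ coprod.desc f f' = pullback.fst _ _ ≫ WidePullback.base _ := by
  cases x with
  | inl a => simp [comp', WidePullback.π_arrow (fun _ : Fin i => f) a]
  | inr b => simp [comp', WidePullback.π_arrow (fun _ : Fin j => f') b, pullback.condition]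

/-- A piece of the fibre power. -/
def piece (e : Fin i ⊕ Fin j ≃ Fin n) : M f f' i j ⟶ SymProd.fibPow (coprod.desc f f') n :=
  WidePullback.lift (pullback.fst _ _ ≫ WidePullback.base _) (fun k => comp' f f' (e.symm k))
    (fun k => comp'_base f f' _)

@[reassoc]
theorem piece_π (e : Fin i ⊕ Fin j ≃ Fin n) (k : Fin n) :
    piece f f' e ≫ WidePullback.π _ k = comp' f f' (e.symm k) :=
  WidePullback.lift_π _ _ _ _ k

@[reassoc]
theorem piece_base (e : Fin i ⊕ Fin j ≃ Fin n) :
    piece f f' e ≫ WidePullback.base _ = pullback.fst _ _ ≫ WidePullback.base _ :=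
  WidePullback.lift_base _ _ _ _

theorem piece_perm (e : Fin i ⊕ Fin j ≃ Fin n) (σ : Equiv.Perm (Fin n)) :
    piece f f' e ≫ SymProd.permHom _ n σ = piece f f' (e.trans σ) := by
  apply WidePullback.hom_ext
  · intro k
    rw [Category.assoc, SymProd.permHom_π, piece_π, piece_π]
    rfl
  · rw [Category.assoc, SymProd.permHom_base, piece_base, piece_base]

/-- Permutations of the two blocks. -/
theorem perm_piece (e : Fin i ⊕ Fin j ≃ Fin n) (σ : Equiv.Perm (Fin i)) (τ : Equiv.Perm (Fin j))
    (m : M f f' i j ⟶ M f f' i j) (h₁ : m ≫ pullback.fst _ _ = pullback.fst _ _ ≫ SymProd.permHom f i σ)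
    (h₂ : m ≫ pullback.snd _ _ = pullback.snd _ _ ≫ SymProd.permHom f' j τ) :
    m ≫ piece f f' e = piece f f' ((Equiv.sumCongr σ τ).trans e) := by
  apply WidePullback.hom_ext
  · intro k
    rw [Category.assoc, piece_π, piece_π]
    rcases hx : e.symm k with a | b <;> simp [comp', hx, reassoc_of% h₁, reassoc_of% h₂]
  · rw [Category.assoc, piece_base, piece_base, reassoc_of% h₁, SymProd.permHom_base]

/-- The open set of points of a given type. -/
def pieceOpen (e : Fin i ⊕ Fin j ≃ Fin n) : (SymProd.fibPow (coprod.desc f f') n).Opens :=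
  ⟨(⋂ a : Fin i, (WidePullback.π (fun _ : Fin n => coprod.desc f f') (e (Sum.inl a))) ⁻¹'
      Set.range (coprod.inl : X ⟶ X ⨿ X')) ∩
    ⋂ b : Fin j, (WidePullback.π (fun _ : Fin n => coprod.desc f f') (e (Sum.inr b))) ⁻¹'
      Set.range (coprod.inr : X' ⟶ X ⨿ X'),
    (isOpen_iInter_of_finite fun _ => (coprod.inl : X ⟶ X ⨿ X').opensRange.2.preimage
      (Scheme.Hom.continuous _)).inter (isOpen_iInter_of_finite fun _ =>
        (coprod.inr : X' ⟶ X ⨿ X').opensRange.2.preimage (Scheme.Hom.continuous _))⟩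

theorem mem_pieceOpen (e : Fin i ⊕ Fin j ≃ Fin n) (x : SymProd.fibPow (coprod.desc f f') n) :
    x ∈ pieceOpen f f' e ↔
      (∀ a, WidePullback.π (fun _ : Fin n => coprod.desc f f') (e (Sum.inl a)) x ∈
        Set.range (coprod.inl : X ⟶ X ⨿ X')) ∧
      ∀ b, WidePullback.π (fun _ : Fin n => coprod.desc f f') (e (Sum.inr b)) x ∈
        Set.range (coprod.inr : X' ⟶ X ⨿ X') :=
  and_congr Set.mem_iInter Set.mem_iInter

theorem range_piece_le (e : Fin i ⊕ Fin j ≃ Fin n) : Set.range (piece f f' e) ⊆ pieceOpen f f' e := by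
  rintro _ ⟨z, rfl⟩
  refine (mem_pieceOpen f f' e _).2 ⟨fun a => ?_, fun b => ?_⟩ <;>
    rw [← Scheme.Hom.comp_apply, piece_π, Equiv.symm_apply_apply] <;>
    simp [comp']

theorem exists_piece_iso (e : Fin i ⊕ Fin j ≃ Fin n) :
    ∃ I : M f f' i j ≅ (pieceOpen f f' e).toScheme, I.hom ≫ (pieceOpen f f' e).ι = piece f f' e := by
  let W := pieceOpen f f' e
  let fw : M f f' i j ⟶ W.toScheme := IsOpenImmersion.lift W.ι (piece f f' e)
    (by rw [Scheme.Opens.range_ι]; exact range_piece_le f f' e)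
  have hfw : fw ≫ W.ι = piece f f' e := IsOpenImmersion.lift_fac _ _ _
  have hl : ∀ a : Fin i, Set.range (W.ι ≫ WidePullback.π (fun _ : Fin n => coprod.desc f f') (e (Sum.inl a))) ⊆
      Set.range (coprod.inl : X ⟶ X ⨿ X') := by
    rintro a _ ⟨z, rfl⟩
    exact ((mem_pieceOpen f f' e z.1).1 z.2).1 a
  have hr : ∀ b : Fin j, Set.range (W.ι ≫ WidePullback.π (fun _ : Fin n => coprod.desc f f') (e (Sum.inr b))) ⊆
      Set.range (coprod.inr : X' ⟶ X ⨿ X') := by
    rintro b _ ⟨z, rfl⟩
    exact ((mem_pieceOpen f f' e z.1).1 z.2).2 b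
  let ba : W.toScheme ⟶ Y := W.ι ≫ WidePullback.base _
  let gl : W.toScheme ⟶ SymProd.fibPow f i :=
    WidePullback.lift ba (fun a => IsOpenImmersion.lift coprod.inl _ (hl a)) fun a =>
      (congrArg (_ ≫ ·) (coprod.inl_desc f f').symm).trans (by
        rw [← Category.assoc, IsOpenImmersion.lift_fac, Category.assoc, WidePullback.π_arrow])
  let gr : W.toScheme ⟶ SymProd.fibPow f' j :=
    WidePullback.lift ba (fun b => IsOpenImmersion.lift coprod.inr _ (hr b)) fun b =>
      (congrArg (_ ≫ ·) (coprod.inr_desc f f').symm).trans (by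
        rw [← Category.assoc, IsOpenImmersion.lift_fac, Category.assoc, WidePullback.π_arrow])
  let bw : W.toScheme ⟶ M f f' i j := pullback.lift gl gr (by simp [gl, gr])
  have hbw : bw ≫ piece f f' e = W.ι := by
    apply WidePullback.hom_ext
    · intro k
      rw [Category.assoc, piece_π]
      obtain ⟨x, rfl⟩ := e.surjective k
      rw [Equiv.symm_apply_apply]
      rcases x with a | b <;> simp [comp', bw, gl, gr]
    · rw [Category.assoc, piece_base]
      simp [bw, gl, ba]
  have h1 : fw ≫ bw = 𝟙 _ := by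
    apply pullback.hom_ext
    · rw [Category.assoc, pullback.lift_fst, Category.id_comp]
      apply WidePullback.hom_ext
      · intro a
        rw [Category.assoc, WidePullback.lift_π, ← cancel_mono (coprod.inl : X ⟶ X ⨿ X'), Category.assoc,
          IsOpenImmersion.lift_fac, ← Category.assoc, hfw, piece_π, Equiv.symm_apply_apply]
        simp [comp']
      · rw [Category.assoc, WidePullback.lift_base, ← Category.assoc, hfw, piece_base]
    · rw [Category.assoc, pullback.lift_snd, Category.id_comp]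
      apply WidePullback.hom_ext
      · intro b
        rw [Category.assoc, WidePullback.lift_π, ← cancel_mono (coprod.inr : X' ⟶ X ⨿ X'), Category.assoc,
          IsOpenImmersion.lift_fac, ← Category.assoc, hfw, piece_π, Equiv.symm_apply_apply]
        simp [comp']
      · rw [Category.assoc, WidePullback.lift_base, ← Category.assoc, hfw, piece_base, pullback.condition]
  have h2 : bw ≫ fw = 𝟙 _ := by rw [← cancel_mono W.ι, Category.assoc, hfw, hbw, Category.id_comp]
  exact ⟨⟨fw, bw, h1, h2⟩, hfw⟩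

instance isOpenImmersion_piece (e : Fin i ⊕ Fin j ≃ Fin n) : IsOpenImmersion (piece f f' e) := by
  obtain ⟨I, hI⟩ := exists_piece_iso f f' e
  rw [← hI]
  infer_instance

theorem disjoint_inl_inr (a : X) (b : X') :
    (coprod.inl : X ⟶ X ⨿ X') a ≠ (coprod.inr : X' ⟶ X ⨿ X') b := fun h =>
  Set.disjoint_left.1 (isCompl_range_inl_inr X X').disjoint ⟨a, rfl⟩ (h ▸ ⟨b, rfl⟩)

theorem exists_piece_mem (x : SymProd.fibPow (coprod.desc f f') n) :
    ∃ (i : Fin (n + 1)) (e : Fin (i : ℕ) ⊕ Fin (n - i) ≃ Fin n), x ∈ Set.range (piece f f' e) := by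
  classical
  let p : Fin n → Prop := fun k =>
    WidePullback.π (fun _ : Fin n => coprod.desc f f') k x ∈ Set.range (coprod.inl : X ⟶ X ⨿ X')
  have hle : Fintype.card {k // p k} ≤ n := (Fintype.card_subtype_le p).trans (Fintype.card_fin n).le
  let e₁ : Fin (Fintype.card {k // p k}) ≃ {k // p k} := (Fintype.equivFin _).symm
  have hc : Fintype.card {k // ¬ p k} = n - Fintype.card {k // p k} := by
    rw [Fintype.card_subtype_compl, Fintype.card_fin]
  let e₂ : Fin (n - Fintype.card {k // p k}) ≃ {k // ¬ p k} :=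
    (finCongr hc.symm).trans (Fintype.equivFin _).symm
  let e : Fin (Fintype.card {k // p k}) ⊕ Fin (n - Fintype.card {k // p k}) ≃ Fin n :=
    (Equiv.sumCongr e₁ e₂).trans (Equiv.sumCompl p)
  refine ⟨⟨_, Nat.lt_succ_of_le hle⟩, e, ?_⟩
  obtain ⟨I, hI⟩ := exists_piece_iso f f' e
  have hx : x ∈ pieceOpen f f' e := by
    refine (mem_pieceOpen f f' e x).2 ⟨fun a => ?_, fun b => ?_⟩
    · have : e (Sum.inl a) = (e₁ a).1 := rfl
      rw [this]
      exact (e₁ a).2
    · have : e (Sum.inr b) = (e₂ b).1 := rfl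
      rw [this]
      have h := (isCompl_range_inl_inr X X').codisjoint.top_le (Set.mem_univ
        (WidePullback.π (fun _ : Fin n => coprod.desc f f') (e₂ b).1 x))
      exact h.resolve_left (e₂ b).2
  refine ⟨I.inv ⟨x, hx⟩, ?_⟩
  rw [← hI, Scheme.Hom.comp_apply, ← Scheme.Hom.comp_apply I.inv, Iso.inv_hom_id]
  rfl

theorem mem_inl_iff (e : Fin i ⊕ Fin j ≃ Fin n) (z : M f f' i j) (k : Fin n) :
    WidePullback.π (fun _ : Fin n => coprod.desc f f') k (piece f f' e z) ∈
      Set.range (coprod.inl : X ⟶ X ⨿ X') ↔ (e.symm k).isLeft := by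
  rw [← Scheme.Hom.comp_apply, piece_π]
  rcases e.symm k with a | b
  · simp [comp']
  · simp only [Sum.isLeft_inr, Bool.false_eq_true, iff_false, comp', Sum.elim_inr, Scheme.Hom.comp_apply]
    rintro ⟨a, ha⟩
    exact disjoint_inl_inr _ _ ha

/-- Two pieces with a common point differ by permutations of the blocks. -/
theorem exists_blocks (e : Fin i ⊕ Fin j ≃ Fin n) (e' : Fin i' ⊕ Fin j' ≃ Fin n) (z : M f f' i j)
    (z' : M f f' i' j') (h : piece f f' e z = piece f f' e' z') :
    ∃ (α : Fin i ≃ Fin i') (β : Fin j ≃ Fin j'), e = (Equiv.sumCongr α β).trans e' := by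
  let σ : Fin i ⊕ Fin j ≃ Fin i' ⊕ Fin j' := e.trans e'.symm
  have hσ : ∀ x, x.isLeft = (σ x).isLeft := fun x => by
    have h1 := mem_inl_iff f f' e z (e x)
    have h2 := mem_inl_iff f f' e' z' (e x)
    rw [h, h2, Equiv.symm_apply_apply] at h1
    exact (Bool.eq_iff_iff.2 h1).symm
  have hl : ∀ a, ∃ a', σ (Sum.inl a) = Sum.inl a' := fun a => Sum.isLeft_iff.1 (hσ (Sum.inl a)).symm
  have hr : ∀ b, ∃ b', σ (Sum.inr b) = Sum.inr b' := fun b => by
    have := hσ (Sum.inr b)
    rcases hb : σ (Sum.inr b) with a' | b'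
    · simp [hb] at this
    · exact ⟨b', rfl⟩
  choose α hα using hl
  choose β hβ using hr
  have hαb : Function.Bijective α := by
    refine ⟨fun a a' h => by simpa using σ.injective (show σ (.inl a) = σ (.inl a') by rw [hα, hα, h]), fun a' => ?_⟩
    obtain ⟨x, hx⟩ := σ.surjective (Sum.inl a')
    rcases x with a | b
    · exact ⟨a, Sum.inl_injective ((hα a).symm.trans hx)⟩
    · simp [hβ] at hx
  have hβb : Function.Bijective β := by
    refine ⟨fun a a' h => by simpa using σ.injective (show σ (.inr a) = σ (.inr a') by rw [hβ, hβ, h]), fun a' => ?_⟩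
    obtain ⟨x, hx⟩ := σ.surjective (Sum.inr a')
    rcases x with a | b
    · simp [hα] at hx
    · exact ⟨b, Sum.inr_injective ((hβ b).symm.trans hx)⟩
  refine ⟨Equiv.ofBijective α hαb, Equiv.ofBijective β hβb, Equiv.ext fun x => ?_⟩
  have : e x = e' (σ x) := by simp [σ]
  rw [this]
  rcases x with a | b
  · simp [hα]
  · simp [hβ]

end SymCoprod
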