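import Groth.Agent.SymCoprodLib.Quot
import Groth.Agent.SymCoprodLib.Pieces
import Groth.Agent.SymCoprodLib.Classes
import Mathlib.RingTheory.PowerSeries.Basic

/-!
# Symmetric powers of a disjoint union
-/

set_option autoImplicit false
set_option backward.isDefEq.respectTransparency false
noncomputable section

universe u

open CategoryTheory CategoryTheory.Limits AlgebraicGeometry

namespace SymCoprod

variable {k : Type u} [Field k] [CharZero k] {X X' Y : Scheme.{u}} (pY : Y ⟶ Spec (CommRingCat.of k))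
  (f : X ⟶ Y) (f' : X' ⟶ Y)
  {Sy : ℕ → Scheme.{u}} {q : ∀ n, SymProd.fibPow f n ⟶ Sy n} {g : ∀ n, Sy n ⟶ Y}
  (hS : ∀ n, SymProd.IsSymProd f n (q n) (g n))
  {Sy' : ℕ → Scheme.{u}} {q' : ∀ n, SymProd.fibPow f' n ⟶ Sy' n} {g' : ∀ n, Sy' n ⟶ Y}
  (hS' : ∀ n, SymProd.IsSymProd f' n (q' n) (g' n))

include pY hS hS' in
theorem main {T : Scheme.{u}} {n : ℕ} {Q : SymProd.fibPow (coprod.desc f f') n ⟶ T} {h : T ⟶ Y}
    (hT : SymProd.IsSymProd (coprod.desc f f') n Q h) :
    ∃ v : ∀ i : Fin (n + 1), pullback (g i) (g' (n - i)) ⟶ T,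
      (∀ i, IsOpenImmersion (v i)) ∧ (∀ i, v i ≫ h = pullback.fst _ _ ≫ g i) ∧
      Pairwise (fun i l => Disjoint (Set.range (v i)) (Set.range (v l))) ∧
      ∀ x, ∃ i, x ∈ Set.range (v i) := by
  let r : ∀ i j : ℕ, M f f' i j ⟶ pullback (g i) (g' j) := fun i j =>
    pullback.map _ _ (g i) (g' j) (q i) (q' j) (𝟙 _) (by simp [(hS i).over]) (by simp [(hS' j).over])
  have haL : ∀ (i : ℕ) (σ : ULift.{u} (Equiv.Perm (Fin i))),
      (SymProd.permActU f i σ).hom ≫ WidePullback.base _ = WidePullback.base _ := fun i σ => by simp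
  have haR : ∀ (j : ℕ) (σ : ULift.{u} (Equiv.Perm (Fin j))),
      (SymProd.permActU f' j σ).hom ≫ WidePullback.base _ = WidePullback.base _ := fun j σ => by simp
  have hepi : ∀ {i j : ℕ} {Z : Scheme.{u}} (a b : pullback (g i) (g' j) ⟶ Z), r i j ≫ a = r i j ≫ b → a = b :=
    fun {i j} Z a b hab => (prod_quot _ _ pY (hS i).isQuot (hS i).over (hS' j).isQuot (hS' j).over (haL i) (haR j)).1
      a b hab
  -- invariance of the quotient maps
  have hr : ∀ {i j : ℕ} (α : Equiv.Perm (Fin i)) (β : Equiv.Perm (Fin j)) (m : M f f' i j ⟶ M f f' i j),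
      m ≫ pullback.fst _ _ = pullback.fst _ _ ≫ SymProd.permHom f i α →
      m ≫ pullback.snd _ _ = pullback.snd _ _ ≫ SymProd.permHom f' j β → m ≫ r i j = r i j := by
    intro i j α β m h₁ h₂
    have e₁ : SymProd.permHom f i α ≫ q i = q i := (hS i).isQuot.inv ⟨α⟩
    have e₂ : SymProd.permHom f' j β ≫ q' j = q' j := (hS' j).isQuot.inv ⟨β⟩
    apply pullback.hom_ext <;> simp [r, reassoc_of% h₁, reassoc_of% h₂, e₁, e₂]
  -- descent of the pieces
  have hpq : ∀ {i j : ℕ} (e e' : Fin i ⊕ Fin j ≃ Fin n), piece f f' e ≫ Q = piece f f' e' ≫ Q := by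
    intro i j e e'
    have h1 : SymProd.permHom _ n (e.symm.trans e') ≫ Q = Q := hT.isQuot.inv ⟨e.symm.trans e'⟩
    rw [show e' = e.trans (e.symm.trans e') from by ext x; simp, ← piece_perm, Category.assoc, h1]
  have hψ : ∀ i : Fin (n + 1), ∃ ψ : pullback (g i) (g' (n - i)) ⟶ T,
      ∀ e : Fin (i : ℕ) ⊕ Fin (n - i) ≃ Fin n, r i (n - i) ≫ ψ = piece f f' e ≫ Q := by
    intro i
    let e₀ : Fin (i : ℕ) ⊕ Fin (n - i) ≃ Fin n := finSumFinEquiv.trans (finCongr (by omega))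
    obtain ⟨ψ, hψ⟩ := (prod_quot _ _ pY (hS i).isQuot (hS i).over (hS' (n - i)).isQuot (hS' (n - i)).over
      (haL i) (haR (n - i))).2 (piece f f' e₀ ≫ Q)
      (fun σ => by
        refine (Category.assoc _ _ _).symm.trans ((congrArg (· ≫ Q) (perm_piece f f' e₀ σ.down 1 _ ?_ ?_)).trans
          (hpq _ _))
        · exact pullback.lift_fst _ _ _
        · rw [SymProd.permHom_one]; exact pullback.lift_snd _ _ _)
      (fun σ => by
        refine (Category.assoc _ _ _).symm.trans ((congrArg (· ≫ Q) (perm_piece f f' e₀ 1 σ.down _ ?_ ?_)).trans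
          (hpq _ _))
        · rw [SymProd.permHom_one]; exact pullback.lift_fst _ _ _
        · exact pullback.lift_snd _ _ _)
    exact ⟨ψ, fun e => hψ.trans (hpq _ _)⟩
  choose ψ hψ using hψ
  let C : Scheme.{u} := ∐ fun i : Fin (n + 1) => pullback (g i) (g' (n - i))
  -- the inverse
  let J : Type := Σ i : Fin (n + 1), (Fin (i : ℕ) ⊕ Fin (n - i) ≃ Fin n)
  let c : ∀ p : J, M f f' p.1 (n - p.1) ⟶ C := fun p =>
    r p.1 (n - p.1) ≫ Sigma.ι (fun i : Fin (n + 1) => pullback (g i) (g' (n - i))) p.1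
  have hoverlap : ∀ (p p' : J) {W : Scheme.{u}} (a : W ⟶ M f f' p.1 (n - p.1))
      (b : W ⟶ M f f' p'.1 (n - p'.1)), a ≫ piece f f' p.2 = b ≫ piece f f' p'.2 → a ≫ c p = b ≫ c p' := by
    intro p p' W a b hab
    rcases isEmpty_or_nonempty W with hW | ⟨⟨w⟩⟩
    · exact isInitialOfIsEmpty.hom_ext _ _
    · obtain ⟨i, e⟩ := p
      obtain ⟨i', e'⟩ := p'
      obtain ⟨α, β, rfl⟩ := exists_blocks f f' e e' (a w) (b w) (by
        rw [← Scheme.Hom.comp_apply, hab, Scheme.Hom.comp_apply])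
      obtain rfl : i = i' := Fin.ext (by simpa using Fintype.card_congr α)
      let m : M f f' i (n - i) ⟶ M f f' i (n - i) := pullback.map _ _ _ _ (SymProd.permHom f i α)
        (SymProd.permHom f' (n - i) β) (𝟙 _) (by simp) (by simp)
      have hm : m ≫ piece f f' e' = piece f f' ((Equiv.sumCongr α β).trans e') :=
        perm_piece f f' e' α β m (pullback.lift_fst _ _ _) (pullback.lift_snd _ _ _)
      have hb : b = a ≫ m := by
        rw [← cancel_mono (piece f f' e'), Category.assoc, hm]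
        exact hab.symm
      simp only [c, hb, Category.assoc]
      rw [← Category.assoc m, hr α β m (pullback.lift_fst _ _ _) (pullback.lift_snd _ _ _)]
  let 𝒰 : Scheme.OpenCover.{0} (SymProd.fibPow (coprod.desc f f') n) :=
    Scheme.Cover.mkOfCovers J (fun p => M f f' p.1 (n - p.1)) (fun p => piece f f' p.2)
      (fun x => by
        obtain ⟨i, e, z, hz⟩ := exists_piece_mem f f' x
        exact ⟨⟨i, e⟩, z, hz⟩) (fun p => inferInstance)
  let χ₀ : SymProd.fibPow (coprod.desc f f') n ⟶ C :=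
    𝒰.glueMorphisms c fun p p' => hoverlap p p' _ _ pullback.condition
  have hχ₀ : ∀ p : J, piece f f' p.2 ≫ χ₀ = c p := fun p => 𝒰.ι_glueMorphisms c _ p
  have hχinv : ∀ σ, (SymProd.permActU (coprod.desc f f') n σ).hom ≫ χ₀ = χ₀ := by
    intro σ
    refine Scheme.Cover.hom_ext 𝒰 _ _ fun p => ?_
    show piece f f' p.2 ≫ SymProd.permHom _ n σ.down ≫ χ₀ = piece f f' p.2 ≫ χ₀
    rw [← Category.assoc, piece_perm, hχ₀ ⟨p.1, p.2.trans σ.down⟩, hχ₀ p]
  obtain ⟨χ, hχ⟩ := QuotLib.exists_desc hT.isQuot χ₀ hχinv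
  let Ψ : C ⟶ T := Sigma.desc ψ
  have h1 : χ ≫ Ψ = 𝟙 T := by
    refine QuotLib.hom_ext hT.isQuot ?_
    rw [← Category.assoc, hχ, Category.comp_id]
    refine Scheme.Cover.hom_ext 𝒰 _ _ fun p => ?_
    show piece f f' p.2 ≫ χ₀ ≫ Ψ = piece f f' p.2 ≫ Q
    rw [← Category.assoc, hχ₀]
    simp [c, Ψ, hψ p.1 p.2]
  have h2 : Ψ ≫ χ = 𝟙 C := by
    refine Sigma.hom_ext _ _ fun i => hepi _ _ ?_
    let e₀ : Fin (i : ℕ) ⊕ Fin (n - i) ≃ Fin n := finSumFinEquiv.trans (finCongr (by omega))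
    rw [Sigma.ι_desc_assoc, ← Category.assoc, hψ i e₀, Category.assoc, hχ, hχ₀ ⟨i, e₀⟩, Category.comp_id]
  haveI : IsIso Ψ := ⟨χ, h2, h1⟩
  have hv : ∀ i, ψ i = Sigma.ι _ i ≫ Ψ := fun i => (Sigma.ι_desc _ _).symm
  refine ⟨ψ, fun i => by rw [hv]; infer_instance, fun i => hepi _ _ ?_, fun i l hil => ?_, fun x => ?_⟩
  · let e₀ : Fin (i : ℕ) ⊕ Fin (n - i) ≃ Fin n := finSumFinEquiv.trans (finCongr (by omega))
    rw [← Category.assoc, hψ i e₀, Category.assoc, hT.over, piece_base]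
    simp [r, (hS i).over]
  · show Disjoint _ _
    rw [hv, hv]
    simp only [Scheme.Hom.comp_base, TopCat.coe_comp, Set.range_comp]
    refine Set.disjoint_image_of_injective (Scheme.homeoOfIso (asIso Ψ)).injective ?_
    have := disjoint_opensRange_sigmaι (fun i : Fin (n + 1) => pullback (g i) (g' (n - i))) i l hil
    rw [disjoint_iff, ← SetLike.coe_set_eq] at this
    exact Set.disjoint_iff_inter_eq_empty.2 (by simpa using this)
  · obtain ⟨c', rfl⟩ := (Scheme.homeoOfIso (asIso Ψ)).surjective x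
    obtain ⟨i, z, rfl⟩ := (sigmaOpenCover fun i : Fin (n + 1) => pullback (g i) (g' (n - i))).exists_eq c'
    exact ⟨i, z, by rw [hv]; rfl⟩

end SymCoprod
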