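import Groth.Agent.SymProdCmpLib.BaseChangeUnit
import Groth.Agent.QuotLib.Props

/-!
# Quotients of fibre products by products of groups, the orders of which are invertible
-/

set_option autoImplicit false
set_option backward.isDefEq.respectTransparency false
noncomputable section

universe u

open CategoryTheory CategoryTheory.Limits AlgebraicGeometry

namespace SymCoprod

theorem isUnit_natCast {k : Type u} [Field k] [CharZero k] {Z : Scheme.{u}} (p : Z ⟶ Spec (CommRingCat.of k))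
    {N : ℕ} (hN : N ≠ 0) : IsUnit (N : Γ(Z, ⊤)) := by
  have h : IsUnit (N : k) := isUnit_iff_ne_zero.2 (Nat.cast_ne_zero.2 hN)
  have h' := h.map ((Scheme.ΓSpecIso (CommRingCat.of k)).inv ≫ p.appTop).hom
  rwa [map_natCast] at h'

variable {A A₁ B B₁ Y : Scheme.{u}} {G : Type u} [Group G] (ρ : G →* Aut A) (σ : G →* Aut B)
  (a : A ⟶ Y) (b : B ⟶ Y)

/-- The action on the left factor. -/
def actL (ha : ∀ g, (ρ g).hom ≫ a = a) : G →* Aut (pullback a b) where
  toFun g :=
    { hom := pullback.map a b a b (ρ g).hom (𝟙 _) (𝟙 _) (by simp [ha]) (by simp)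
      inv := pullback.map a b a b (ρ g).inv (𝟙 _) (𝟙 _)
        (by rw [Category.comp_id, Iso.eq_inv_comp, ha]) (by simp)
      hom_inv_id := pullback.hom_ext (by simp) (by simp)
      inv_hom_id := pullback.hom_ext (by simp) (by simp) }
  map_one' := Iso.ext (pullback.hom_ext (by simp [Aut.Aut_mul_def]; rfl) (by simp; rfl))
  map_mul' g g' := Iso.ext (pullback.hom_ext (by simp [Aut.Aut_mul_def]) (by simp [Aut.Aut_mul_def]))

/-- The action on the right factor. -/
def actR (hb : ∀ g, (σ g).hom ≫ b = b) : G →* Aut (pullback a b) where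
  toFun g :=
    { hom := pullback.map a b a b (𝟙 _) (σ g).hom (𝟙 _) (by simp) (by simp [hb])
      inv := pullback.map a b a b (𝟙 _) (σ g).inv (𝟙 _) (by simp)
        (by rw [Category.comp_id, Iso.eq_inv_comp, hb])
      hom_inv_id := pullback.hom_ext (by simp) (by simp)
      inv_hom_id := pullback.hom_ext (by simp) (by simp) }
  map_one' := Iso.ext (pullback.hom_ext (by simp; rfl) (by simp [Aut.Aut_mul_def]; rfl))
  map_mul' g g' := Iso.ext (pullback.hom_ext (by simp [Aut.Aut_mul_def]) (by simp [Aut.Aut_mul_def]))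

variable {ρ σ} {k : Type u} [Field k] [CharZero k] (pY : Y ⟶ Spec (CommRingCat.of k)) [Finite G]

include pY in
theorem isQuot_left {q : A ⟶ A₁} (g₁ : A₁ ⟶ Y) (hq : SGA1.IsQuot ρ q) (w : q ≫ g₁ = a)
    (ha : ∀ g, (ρ g).hom ≫ a = a) :
    SGA1.IsQuot (actL ρ a b ha) (pullback.map a b g₁ b q (𝟙 _) (𝟙 _) (by simp [w]) (by simp)) := by
  refine SymProdCmp.isQuot_baseChange_of_isUnit (qY := pullback.fst g₁ b) (pX := pullback.fst a b)
    (isUnit_natCast (pullback.snd g₁ b ≫ b ≫ pY) Nat.card_pos.ne') hq ?_ (fun g => pullback.lift_fst _ _ _)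
    (fun g => pullback.hom_ext ?_ ?_)
  · refine IsPullback.of_bot ?_ (by simp) (IsPullback.of_hasPullback g₁ b)
    simpa [w] using IsPullback.of_hasPullback a b
  · simp [actL, hq.inv g]
  · simp [actL]

include pY in
theorem isQuot_right {q : B ⟶ B₁} (g₁ : B₁ ⟶ Y) (hq : SGA1.IsQuot σ q) (w : q ≫ g₁ = b)
    (hb : ∀ g, (σ g).hom ≫ b = b) :
    SGA1.IsQuot (actR σ a b hb) (pullback.map a b a g₁ (𝟙 _) q (𝟙 _) (by simp) (by simp [w])) := by
  refine SymProdCmp.isQuot_baseChange_of_isUnit (qY := pullback.snd a g₁) (pX := pullback.snd a b)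
    (isUnit_natCast (pullback.fst a g₁ ≫ a ≫ pY) Nat.card_pos.ne') hq ?_ (fun g => pullback.lift_snd _ _ _)
    (fun g => pullback.hom_ext ?_ ?_)
  · refine IsPullback.of_bot ?_ (by simp) (IsPullback.of_hasPullback a g₁).flip
    simpa [w] using (IsPullback.of_hasPullback a b).flip
  · simp [actR]
  · simp [actR, hq.inv g]

variable {H : Type u} [Group H] [Finite H] {τ : H →* Aut B}

include pY in
/-- The product of two quotients is an epimorphism through which invariant morphisms factor. -/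
theorem prod_quot {qA : A ⟶ A₁} {gA : A₁ ⟶ Y} {qB : B ⟶ B₁} {gB : B₁ ⟶ Y} (hA : SGA1.IsQuot ρ qA)
    (wA : qA ≫ gA = a) (hB : SGA1.IsQuot τ qB) (wB : qB ≫ gB = b)
    (ha : ∀ g, (ρ g).hom ≫ a = a) (hb : ∀ h, (τ h).hom ≫ b = b) :
    (∀ {Z : Scheme.{u}} (u v : pullback gA gB ⟶ Z),
      pullback.map a b gA gB qA qB (𝟙 _) (by simp [wA]) (by simp [wB]) ≫ u =
        pullback.map a b gA gB qA qB (𝟙 _) (by simp [wA]) (by simp [wB]) ≫ v → u = v) ∧
    ∀ {Z : Scheme.{u}} (h : pullback a b ⟶ Z), (∀ g, (actL ρ a b ha g).hom ≫ h = h) →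
      (∀ g, (actR τ a b hb g).hom ≫ h = h) →
      ∃ h' : pullback gA gB ⟶ Z, pullback.map a b gA gB qA qB (𝟙 _) (by simp [wA]) (by simp [wB]) ≫ h' = h := by
  let m₁ : pullback a b ⟶ pullback gA b := pullback.map a b gA b qA (𝟙 _) (𝟙 _) (by simp [wA]) (by simp)
  let m₂ : pullback gA b ⟶ pullback gA gB := pullback.map gA b gA gB (𝟙 _) qB (𝟙 _) (by simp) (by simp [wB])
  have h₁ := isQuot_left a b pY gA hA wA ha
  have h₂ : SGA1.IsQuot (actR τ gA b hb) m₂ := isQuot_right gA b pY gB hB wB hb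
  have e : pullback.map a b gA gB qA qB (𝟙 _) (by simp [wA]) (by simp [wB]) = m₁ ≫ m₂ := by
    apply pullback.hom_ext <;> simp [m₁, m₂]
  refine ⟨fun u v huv => QuotLib.hom_ext h₂ (QuotLib.hom_ext h₁ ?_), fun h hL hR => ?_⟩
  · simpa only [e, Category.assoc] using huv
  · obtain ⟨h', hh'⟩ := QuotLib.exists_desc h₁ h hL
    have hinv : ∀ g, (actR τ gA b hb g).hom ≫ h' = h' := fun g => by
      refine QuotLib.hom_ext h₁ ?_
      have e' : m₁ ≫ (actR τ gA b hb g).hom = (actR τ a b hb g).hom ≫ m₁ := by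
        apply pullback.hom_ext <;> simp [m₁, actR]
      show m₁ ≫ (actR τ gA b hb g).hom ≫ h' = m₁ ≫ h'
      rw [← Category.assoc, e', Category.assoc, hh', hR]
    obtain ⟨h'', hh''⟩ := QuotLib.exists_desc h₂ h' hinv
    exact ⟨h'', by rw [e, Category.assoc, hh'', hh']⟩

end SymCoprod
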